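import Groth.Agent.EtFound.Cospec
import Groth.Agent.EtFound.FLCAb
import Groth.Agent.EtFound.FinitePoints
import Groth.Agent.EtFound.PullGerm
import Groth.Agent.EtFound.Strata
import Mathlib.AlgebraicGeometry.Morphisms.UniversallyOpen
import Mathlib.AlgebraicGeometry.Morphisms.QuasiFinite

/-!
# Finite local constancy descends along finite locally free surjections
-/

set_option autoImplicit false

universe u

open CategoryTheory CategoryTheory.Limits AlgebraicGeometry Opposite

namespace Groth.Agent.FLCDescent13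

open Groth.Agent.EtFound

set_option backward.isDefEq.respectTransparency.types false

variable {X Y : Scheme.{u}}

/-- sections agreeing at a geometric point agree on a common neighbourhood -/
theorem exists_agree {G : EtCoh.Ab Y} {Ω : Type u} [Field Ω] [IsSepClosed Ω] {ξ : Spec (CommRingCat.of Ω) ⟶ Y}
    {κ : Type*} [Finite κ] {U B : Y.Etale} (z : (Scheme.pointSmallEtale ξ).fiber.obj U)
    (t : (Scheme.pointSmallEtale ξ).fiber.obj B) (s : κ → G.obj.obj (op U)) (a : κ → G.obj.obj (op B))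
    (h : ∀ c, (Scheme.pointSmallEtale ξ).toPresheafFiber U z G.obj (s c) =
      (Scheme.pointSmallEtale ξ).toPresheafFiber B t G.obj (a c)) :
    ∃ (W : Y.Etale) (w : (Scheme.pointSmallEtale ξ).fiber.obj W) (rU : W ⟶ U) (rB : W ⟶ B),
      (Scheme.pointSmallEtale ξ).fiber.map rU w = z ∧ (Scheme.pointSmallEtale ξ).fiber.map rB w = t ∧
      ∀ c, G.obj.map rU.op (s c) = G.obj.map rB.op (a c) := by
  classical
  let Φ := Scheme.pointSmallEtale ξ
  haveI := Fintype.ofFinite κ
  suffices key : ∀ σ : Finset κ, ∃ (W : Y.Etale) (w : Φ.fiber.obj W) (rU : W ⟶ U) (rB : W ⟶ B),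
      Φ.fiber.map rU w = z ∧ Φ.fiber.map rB w = t ∧
      ∀ c ∈ σ, G.obj.map rU.op (s c) = G.obj.map rB.op (a c) by
    obtain ⟨W, w, rU, rB, h1, h2, h3⟩ := key Finset.univ
    exact ⟨W, w, rU, rB, h1, h2, fun c => h3 c (Finset.mem_univ c)⟩
  intro σ
  induction σ using Finset.induction_on with
  | empty =>
    let m := IsCofiltered.min (Φ.fiber.elementsMk U z) (Φ.fiber.elementsMk B t)
    exact ⟨m.1, m.2, (IsCofiltered.minToLeft (Φ.fiber.elementsMk U z) (Φ.fiber.elementsMk B t)).1,
      (IsCofiltered.minToRight (Φ.fiber.elementsMk U z) (Φ.fiber.elementsMk B t)).1,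
      (IsCofiltered.minToLeft (Φ.fiber.elementsMk U z) (Φ.fiber.elementsMk B t)).2,
      (IsCofiltered.minToRight (Φ.fiber.elementsMk U z) (Φ.fiber.elementsMk B t)).2,
      fun c hc => absurd hc (Finset.notMem_empty c)⟩
  | insert b σ _ ih =>
    obtain ⟨W, w, rU, rB, h1, h2, h3⟩ := ih
    have e : Φ.toPresheafFiber W w G.obj (G.obj.map rU.op (s b)) =
        Φ.toPresheafFiber W w G.obj (G.obj.map rB.op (a b)) := by
      rw [Φ.toPresheafFiber_w_apply rU w G.obj, Φ.toPresheafFiber_w_apply rB w G.obj, h1, h2]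
      exact h b
    obtain ⟨W', f, w', hw', he⟩ := (Φ.toPresheafFiber_eq_iff' W w _ _).1 e
    refine ⟨W', w', f ≫ rU, f ≫ rB, ?_, ?_, fun c hc => ?_⟩
    · rw [Functor.map_comp_apply, hw', h1]
    · rw [Functor.map_comp_apply, hw', h2]
    · rw [op_comp, op_comp, Functor.map_comp_apply, Functor.map_comp_apply]
      rcases Finset.mem_insert.1 hc with rfl | hc
      · exact he
      · exact congrArg (G.obj.map f.op) (h3 c hc)

/-- geometric points lift along locally quasi-finite morphisms through any point above -/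
theorem exists_fac_of_lqf {P Q : Scheme.{u}} {Ω : Type u} [Field Ω] [IsAlgClosed Ω] (g : P ⟶ Q)
    [LocallyQuasiFinite g] [LocallyOfFiniteType g] (q : Spec (CommRingCat.of Ω) ⟶ Q) (w : P)
    (hw : g.base w = q.base (default : Spec (CommRingCat.of Ω))) :
    ∃ l : Spec (CommRingCat.of Ω) ⟶ P, l ≫ g = q ∧ l.base (default : Spec (CommRingCat.of Ω)) = w := by
  obtain ⟨z, hz, -⟩ := Scheme.Pullback.exists_preimage_pullback (f := g) (g := q) w default hw
  obtain ⟨A, hA, hzA, -⟩ := exists_isAffineOpen_mem_and_subset (x := z) (U := (⊤ : (pullback g q).Opens)) trivial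
  have : IsAffine A.toScheme := hA
  have : IsLocallyArtinian (Spec (CommRingCat.of Ω)) :=
    Scheme.isLocallyArtinianScheme_Spec.mpr inferInstance
  have : LocallyQuasiFinite (pullback.snd g q) := MorphismProperty.pullback_snd _ _ inferInstance
  have : LocallyQuasiFinite (A.ι ≫ pullback.snd g q) := inferInstance
  have : QuasiCompact (A.ι ≫ pullback.snd g q) := quasiCompact_of_compactSpace _
  have : IsFinite (A.ι ≫ pullback.snd g q) := IsFinite.of_locallyQuasiFinite _
  obtain ⟨l, hl, hlz⟩ := exists_section_of_integral (A.ι ≫ pullback.snd g q) (⟨z, hzA⟩ : A.toScheme)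
  refine ⟨l ≫ A.ι ≫ pullback.fst g q, ?_, ?_⟩
  · rw [Category.assoc, Category.assoc, pullback.condition, ← Category.assoc A.ι, ← Category.assoc, hl,
      Category.id_comp]
  · rw [Scheme.Hom.comp_apply, hlz, Scheme.Hom.comp_apply]
    exact hz

/-- finite local constancy can be checked after flat, finitely presented, quasi-finite coverings -/
theorem isFiniteLocallyConstant_of_pull (F : EtCoh.Ab X)
    (h : ∀ x : X, ∃ (Y : Scheme.{u}) (q : Y ⟶ X) (_ : Flat q) (_ : LocallyOfFinitePresentation q)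
      (_ : LocallyQuasiFinite q), x ∈ Set.range q ∧ EtCoh.IsFiniteLocallyConstant ((EtCoh.pull q).obj F)) :
    EtCoh.IsFiniteLocallyConstant F := by
  rw [isFiniteLocallyConstant_iff]
  intro x
  obtain ⟨Y, q, _, _, _, ⟨y, rfl⟩, hF⟩ := h x
  rw [isFiniteLocallyConstant_iff] at hF
  obtain ⟨U', p, hp, S', hS'⟩ := hF y
  obtain ⟨Ω, _, _, ξ, z, hz⟩ := exists_algClosed_point U' p
  let G := (EtCoh.pull q).obj F
  let i := (sheafFiberPullIso q ξ (A := AddCommGrpCat.{u + 1})).app F
  haveI := hS'.1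
  have hz' := hS'.2 Ω ξ z
  have hi : Function.Bijective i.inv := (ConcreteCategory.isIso_iff_bijective i.inv).1 inferInstance
  haveI : Finite ((EtCoh.stalk ξ).obj G) := Finite.of_surjective _ hz'.2
  haveI : Finite ((EtCoh.stalk (ξ ≫ q)).obj F) := Finite.of_injective (β := (EtCoh.stalk ξ).obj G) i.inv hi.1
  obtain ⟨V, v, l, hl⟩ := exists_stalk_sections (F := F) (ξ ≫ q)
  let t := (bcFiberEquiv q ξ V).symm v
  let η : ∀ (W : X.Etale), F.obj.obj (op W) → G.obj.obj (op ((EtCoh.bc q).obj W)) := fun W s =>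
    (((EtCoh.bc q).sheafAdjunctionContinuous AddCommGrpCat.{u + 1} X.smallEtaleTopology
      Y.smallEtaleTopology).unit.app F).hom.app (op W) s
  have hgerm : ∀ {k : Type u} [Field k] [IsSepClosed k] (θ : Spec (CommRingCat.of k) ⟶ Y) (W : X.Etale)
      (u : (Scheme.pointSmallEtale θ).fiber.obj ((EtCoh.bc q).obj W)) (s : F.obj.obj (op W)),
      ((sheafFiberPullIso q θ (A := AddCommGrpCat.{u + 1})).app F).inv
          ((Scheme.pointSmallEtale (θ ≫ q)).toPresheafFiber W (bcFiberEquiv q θ W u) F.obj s) =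
        (Scheme.pointSmallEtale θ).toPresheafFiber ((EtCoh.bc q).obj W) u G.obj (η W s) := fun θ W u s =>
    ((ConcreteCategory.comp_apply _ _ s).symm.trans
      (ConcreteCategory.congr_hom (sheafFiberPullIso_germ q θ F W u) s)).trans (ConcreteCategory.comp_apply _ _ s)
  choose s' hs' using fun c => hz'.2 (i.inv c)
  obtain ⟨W, w, rU, rB, hwU, hwB, hagree⟩ := exists_agree (G := G) z t (fun c => (s' c).1) (fun c => η V (l c))
    fun c => by
      refine (hs' c).trans ?_
      rw [← hgerm ξ V t (l c)]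
      refine congrArg i.inv ?_
      rw [show bcFiberEquiv q ξ V t = v from Equiv.apply_symm_apply _ _]
      exact (hl c).symm
  -- the open image in `V`
  let r : W.left ⟶ V.left := rB.left ≫ pullback.fst V.hom q
  have hro : IsOpenMap r := by
    haveI : Etale rB.left := etale_left rB
    haveI : Flat (pullback.fst V.hom q) := MorphismProperty.pullback_fst _ _ ‹_›
    haveI : LocallyOfFinitePresentation (pullback.fst V.hom q) := MorphismProperty.pullback_fst _ _ ‹_›
    exact (pullback.fst V.hom q).isOpenMap.comp rB.left.isOpenMap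
  let O : V.left.Opens := ⟨Set.range r, hro.isOpen_range⟩
  haveI : Etale V.hom := V.prop
  let V' : X.Etale := Scheme.Etale.mk (O.ι ≫ V.hom)
  let rV : V' ⟶ V := MorphismProperty.Over.homMk O.ι rfl
  have hv : ptOf v ∈ O := ⟨ptOf w, by
    have h1 : ptOf t = rB.left.base (ptOf w) := by rw [← ptOf_map rB w, hwB]
    show (pullback.fst V.hom q).base (rB.left.base (ptOf w)) = _
    rw [← h1]
    conv_rhs => rw [← Equiv.apply_symm_apply (bcFiberEquiv q ξ V) v]
    exact (Scheme.Hom.comp_apply _ _ _).symm⟩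
  refine ⟨V', (⟨ptOf v, hv⟩ : O.toScheme), ?_, l.range.map (F.obj.map rV.op).hom, ?_, fun k _ _ ζ u => ?_⟩
  · refine (Scheme.Hom.comp_apply _ _ _).trans ((hom_ptOf v).trans ?_)
    rw [Scheme.Hom.comp_apply]
    refine congrArg q.base ?_
    rw [← hom_ptOf z, ← hp]
    exact congrArg U'.hom.base hz
  · haveI : Finite l.range := Finite.of_surjective l.rangeRestrict l.rangeRestrict_surjective
    exact Finite.of_surjective (fun s : l.range => (⟨F.obj.map rV.op s.1, AddSubgroup.mem_map_of_mem _ s.2⟩ :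
      l.range.map (F.obj.map rV.op).hom)) fun ⟨_, s, hs, rfl⟩ => ⟨⟨s, hs⟩, rfl⟩
  let uV := (Scheme.pointSmallEtale ζ).fiber.map rV u
  have huV : ptOf uV ∈ O := (ptOf_map rV u).symm ▸ (ptOf u).2
  obtain ⟨w₀, hw₀⟩ := huV
  haveI : LocallyQuasiFinite (pullback.fst V.hom q) := MorphismProperty.pullback_fst _ _ inferInstance
  haveI : LocallyOfFiniteType (pullback.fst V.hom q) := MorphismProperty.pullback_fst _ _ inferInstance
  obtain ⟨l₂, hl₂, hl₂'⟩ := exists_fac_of_lqf (pullback.fst V.hom q)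
    (uV.left : Spec (CommRingCat.of k) ⟶ V.left) (rB.left.base w₀) ((Scheme.Hom.comp_apply _ _ _).symm.trans hw₀)
  let θ := l₂ ≫ pullback.snd V.hom q
  have e : θ ≫ q = ζ := by
    rw [Category.assoc, ← pullback.condition, ← Category.assoc, hl₂]
    exact CategoryTheory.Over.w uV
  let t₂ : (Scheme.pointSmallEtale θ).fiber.obj ((EtCoh.bc q).obj V) := CategoryTheory.Over.homMk l₂ rfl
  obtain ⟨w₂, hw₂, -⟩ := exists_lift_point rB t₂ w₀ hl₂'.symm
  let Tζ := fun a : l.range.map (F.obj.map rV.op).hom =>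
    (Scheme.pointSmallEtale ζ).toPresheafFiber V' u F.obj a.1
  let ρ : (EtCoh.stalk (ξ ≫ q)).obj F → l.range.map (F.obj.map rV.op).hom := fun c =>
    ⟨F.obj.map rV.op (l c), AddSubgroup.mem_map_of_mem _ ⟨c, rfl⟩⟩
  have hρ : Function.Surjective ρ := fun ⟨_, _, ⟨c, rfl⟩, rfl⟩ => ⟨c, rfl⟩
  suffices hb : Function.Bijective (Tζ ∘ ρ) from
    ⟨Function.Injective.of_comp_right hb.1 hρ, Function.Surjective.of_comp hb.2⟩
  have e₀ : Tζ ∘ ρ = fun c => (Scheme.pointSmallEtale ζ).toPresheafFiber V uV F.obj (l c) :=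
    funext fun c => (Scheme.pointSmallEtale ζ).toPresheafFiber_w_apply rV u F.obj (l c)
  rw [e₀]
  clear e₀ hρ ρ Tζ
  have huv : uV.left = l₂ ≫ pullback.fst V.hom q := hl₂.symm
  clear_value uV
  subst e
  have hbv : bcFiberEquiv q θ V t₂ = uV := CategoryTheory.Over.OverMorphism.ext huv.symm
  subst hbv
  have hiθ : Function.Bijective ((sheafFiberPullIso q θ (A := AddCommGrpCat.{u + 1})).app F).inv :=
    (ConcreteCategory.isIso_iff_bijective _).1 inferInstance
  refine (Function.Bijective.of_comp_iff' hiθ _).1 ?_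
  have e₁ : ((sheafFiberPullIso q θ (A := AddCommGrpCat.{u + 1})).app F).inv ∘
      (fun c => (Scheme.pointSmallEtale (θ ≫ q)).toPresheafFiber V (bcFiberEquiv q θ V t₂) F.obj (l c)) =
      (fun s : S' => (Scheme.pointSmallEtale θ).toPresheafFiber U'
        ((Scheme.pointSmallEtale θ).fiber.map rU w₂) G.obj s.1) ∘ s' := funext fun c => by
    refine (hgerm θ V t₂ (l c)).trans ?_
    show _ = (Scheme.pointSmallEtale θ).toPresheafFiber U' ((Scheme.pointSmallEtale θ).fiber.map rU w₂) G.obj (s' c).1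
    rw [← (Scheme.pointSmallEtale θ).toPresheafFiber_w_apply rU w₂ G.obj, hagree c,
      (Scheme.pointSmallEtale θ).toPresheafFiber_w_apply rB w₂ G.obj, hw₂]
  rw [e₁]
  refine (hS'.2 k θ _).comp ⟨fun c d h => hi.1 ?_, fun a => ?_⟩
  · rw [← hs' c, ← hs' d, h]
  · obtain ⟨c, hc⟩ := hi.2 ((Scheme.pointSmallEtale ξ).toPresheafFiber U' z G.obj a.1)
    exact ⟨c, hz'.1 ((hs' c).trans hc)⟩

end Groth.Agent.FLCDescent13
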